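import Cfsg.Agent.TIHall.KleinStruct
import Cfsg.Agent.Char.Ortho
import Cfsg.Agent.Invol.Pair
import Mathlib.Tactic.Linarith
import Mathlib.Tactic.IntervalCases

/-!
Counting involutions and exceptional characters for the configuration of `KleinStruct`.
-/

set_option autoImplicit false

namespace Cfsg.Agent.TIHall

open Subgroup Cfsg.Agent
open scoped ComplexConjugate

universe u

variable {G : Type u} [Group G] [Fintype G] {P : Sylow 3 G}

/-- An involution takes integral values. -/
theorem exists_int_value {χ : G → ℂ} (hχ : Cfsg.IsIrrCharacter G χ) {t : G} (ht : orderOf t = 2) :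
    ∃ e : ℤ, χ t = e := by
  obtain ⟨d, ρ, -, rfl⟩ := hχ
  obtain ⟨μ, b, -, hμ, hval⟩ := Char.exists_eigenbasis ρ t
  have : ∀ i, ∃ e : ℤ, μ i = e := fun i => by
    have h := hμ i
    rw [ht, sq_eq_one_iff] at h
    rcases h with h | h
    · exact ⟨1, by simp [h]⟩
    · exact ⟨-1, by simp [h]⟩
  choose e he using this
  exact ⟨∑ i, e i, by rw [hval]; push_cast; exact Finset.sum_congr rfl fun i _ => he i⟩

/-- The facts used below. -/
structure Facts (P : Sylow 3 G) (t : G) : Prop where
  ctx : Ctx P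
  tC : t ∈ centralizer (P : Set G)
  t_order : orderOf t = 2
  uniq : ∀ s ∈ centralizer (P : Set G), s * s = 1 → s = 1 ∨ s = t
  Nt : centralizer ({t} : Set G) = normalizer ((P : Subgroup G) : Set G)
  cent : ∀ x ∈ (P : Subgroup G), x ≠ 1 → centralizer ({x} : Set G) = centralizer (P : Set G)
  outer : ∀ n ∈ normalizer ((P : Subgroup G) : Set G), n ∉ centralizer (P : Set G) → n * n = 1 ∧ IsConj t n
  conj_t : ∀ i : G, orderOf i = 2 → IsConj t i

theorem exists_facts (h : Ctx P) : ∃ t, Facts P t := by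
  obtain ⟨t, htC, ht, huniq⟩ := h.exists_t
  obtain ⟨h1, h2, h3⟩ := h.local_structure htC ht huniq
  exact ⟨t, h, htC, ht, huniq, h.centralizer_t htC ht huniq, h1, h2, h3⟩

variable {t : G}

theorem Facts.tt (F : Facts P t) : t * t = 1 := by rw [← sq, ← F.t_order, pow_orderOf_eq_one]

theorem Facts.t_ne (F : Facts P t) : t ≠ 1 := fun e => by
  have := F.t_order; rw [e, orderOf_one] at this; norm_num at this

theorem Facts.inv_of_outer (F : Facts P t) {n s : G} (hn : n ∈ normalizer ((P : Subgroup G) : Set G))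
    (hnC : n ∉ centralizer (P : Set G)) (hs : s ∈ centralizer (P : Set G)) : n * s * n⁻¹ = s⁻¹ := by
  have h1 := (F.outer n hn hnC).1
  have h2 : n * s * (n * s) = 1 :=
    (F.outer (n * s) (mul_mem hn (F.ctx.centralizer_le hs)) fun e => hnC ((Subgroup.mul_mem_cancel_right _ hs).1 e)).1
  have hninv : n⁻¹ = n := inv_eq_of_mul_eq_one_right h1
  rw [hninv]
  calc n * s * n = n * s * (n * s) * s⁻¹ := by group
    _ = s⁻¹ := by rw [h2, one_mul]

theorem Facts.outer_mul_ne_one (F : Facts P t) {n : G} (hnC : n ∉ centralizer (P : Set G)) : n ≠ 1 :=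
  fun e => hnC (e ▸ one_mem _)

/-- The index set of nontrivial elements of `C` other than the involution. -/
noncomputable def sSet (P : Sylow 3 G) (t : G) : Finset G :=
  by classical exact Finset.univ.filter fun s => s ∈ centralizer (P : Set G) ∧ s ≠ 1 ∧ s ≠ t

/-- The involutions not commuting with `t`. -/
noncomputable def rSet (P : Sylow 3 G) : Finset G :=
  by classical exact Finset.univ.filter fun i => orderOf i = 2 ∧ i ∉ normalizer ((P : Subgroup G) : Set G)

/-- The elements carrying `t` into the outer coset. -/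
noncomputable def hSet (P : Sylow 3 G) (t : G) : Finset G :=
  by classical exact Finset.univ.filter fun h => h⁻¹ * t * h ∈ normalizer ((P : Subgroup G) : Set G) ∧ h⁻¹ * t * h ∉ centralizer (P : Set G)

theorem Facts.card_fiber_conj (F : Facts P t) [DecidableEq G] {i : G} (hi : IsConj t i) :
    (Finset.univ.filter fun a : G => a * t * a⁻¹ = i).card = 4 * Nat.card P := by
  classical
  obtain ⟨c, hc⟩ := isConj_iff.1 hi
  rw [← F.ctx.hN, Nat.card_eq_fintype_card, Fintype.card_subtype]
  refine Finset.card_bij (fun a _ => c⁻¹ * a) (fun a ha => ?_) (fun a _ b _ e => mul_left_cancel e) (fun n hn => ?_)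
  · simp only [Finset.mem_filter, Finset.mem_univ, true_and] at ha ⊢
    rw [← F.Nt, mem_centralizer_singleton_iff]
    calc c⁻¹ * a * t = c⁻¹ * (a * t * a⁻¹) * a := by group
      _ = t * (c⁻¹ * a) := by rw [ha, ← hc]; group
  · refine ⟨c * n, ?_, by group⟩
    simp only [Finset.mem_filter, Finset.mem_univ, true_and] at hn ⊢
    rw [← F.Nt, mem_centralizer_singleton_iff] at hn
    rw [← hc, show c * n * t * (c * n)⁻¹ = c * (n * t * n⁻¹) * c⁻¹ by group, hn, mul_inv_cancel_right]

theorem Facts.card_hSet (F : Facts P t) : (hSet P t).card = 2 * Nat.card P * (4 * Nat.card P) := by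
  classical
  have hout : (Finset.univ.filter fun n : G => n ∈ normalizer ((P : Subgroup G) : Set G) ∧
      n ∉ centralizer (P : Set G)).card = 2 * Nat.card P := by
    have e : (Finset.univ.filter fun n : G => n ∈ normalizer ((P : Subgroup G) : Set G) ∧ n ∉ centralizer (P : Set G)) =
        (Finset.univ.filter fun n : G => n ∈ normalizer ((P : Subgroup G) : Set G)) \
        (Finset.univ.filter fun n : G => n ∈ centralizer (P : Set G)) := by ext g; simp
    rw [e, Finset.card_sdiff_of_subset (fun g hg => by simp at hg ⊢; exact F.ctx.centralizer_le hg),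
      ← Fintype.card_subtype, ← Fintype.card_subtype, ← Nat.card_eq_fintype_card, ← Nat.card_eq_fintype_card,
      show Nat.card {x // x ∈ normalizer ((P : Subgroup G) : Set G)} = _ from F.ctx.hN,
      show Nat.card {x // x ∈ centralizer (P : Set G)} = _ from F.ctx.hC]
    omega
  rw [← hout]
  rw [Finset.card_eq_sum_card_fiberwise (f := fun h => h⁻¹ * t * h)
    (t := Finset.univ.filter fun n : G => n ∈ normalizer ((P : Subgroup G) : Set G) ∧ n ∉ centralizer (P : Set G))
    (s := hSet P t) (fun h hh => by simpa [hSet] using hh)]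
  rw [Finset.sum_const_nat fun n hn => ?_]
  simp only [Finset.mem_filter, Finset.mem_univ, true_and] at hn
  obtain ⟨-, hconj⟩ := F.outer n hn.1 hn.2
  rw [← F.card_fiber_conj hconj]
  refine Finset.card_bij (fun a _ => a⁻¹) (fun a ha => ?_) (fun a _ b _ e => inv_injective e) (fun a ha => ?_)
  · simp only [Finset.mem_filter, Finset.mem_univ, true_and] at ha ⊢
    rw [inv_inv]; exact ha.2
  · simp only [Finset.mem_filter, Finset.mem_univ, true_and] at ha
    refine ⟨a⁻¹, ?_, inv_inv a⟩
    simp only [Finset.mem_filter, hSet, Finset.mem_univ, true_and, inv_inv]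
    exact ⟨by rw [ha]; exact hn, ha⟩

theorem Facts.mem_rSet_of (F : Facts P t) {h s : G} (hh : h ∈ hSet P t) (hs : s ∈ sSet P t) :
    h * s * h⁻¹ * t ∈ rSet P := by
  classical
  simp only [hSet, sSet, rSet, Finset.mem_filter, Finset.mem_univ, true_and] at hh hs ⊢
  set j := h⁻¹ * t * h
  have hsj : s * j ∈ normalizer ((P : Subgroup G) : Set G) := mul_mem (F.ctx.centralizer_le hs.1) hh.1
  have hsjC : s * j ∉ centralizer (P : Set G) := fun e => hh.2 ((Subgroup.mul_mem_cancel_left _ hs.1).1 e)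
  have e : h * s * h⁻¹ * t = h * (s * j) * h⁻¹ := by simp only [j]; group
  rw [e]
  refine ⟨?_, fun hmem => ?_⟩
  · rw [Invol.orderOf_conj]
    exact orderOf_eq_prime (by rw [sq]; exact (F.outer _ hsj hsjC).1) (F.outer_mul_ne_one hsjC)
  · rw [← F.Nt, mem_centralizer_singleton_iff] at hmem
    have h1 : s * j * j = j * (s * j) := by
      have := congrArg (fun g => h⁻¹ * g * h) hmem
      simp only [j] at this ⊢
      calc s * (h⁻¹ * t * h) * (h⁻¹ * t * h) = h⁻¹ * (h * (s * (h⁻¹ * t * h)) * h⁻¹ * t) * h := by group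
        _ = h⁻¹ * (t * (h * (s * (h⁻¹ * t * h)) * h⁻¹)) * h := this
        _ = _ := by group
    have h2 : s = j * s * j⁻¹ := by
      have hjj := (F.outer j hh.1 hh.2).1
      calc s = s * (j * j) * 1 := by rw [hjj, mul_one, mul_one]
        _ = j * s * j := by rw [mul_one, ← mul_assoc, h1, ← mul_assoc]
        _ = _ := by rw [inv_eq_of_mul_eq_one_right hjj]
    rw [F.inv_of_outer hh.1 hh.2 hs.1] at h2
    have h3 : s * s = 1 := by nth_rewrite 2 [h2]; group
    rcases F.uniq s hs.1 h3 with h4 | h4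
    · exact hs.2.1 h4
    · exact hs.2.2 h4

theorem Facts.no_four (F : Facts P t) {g : G} (hg : g * g * (g * g) = 1) : g * g = 1 := by
  by_contra hne
  obtain ⟨c, hc⟩ := isConj_iff.1 (F.conj_t (g * g) (orderOf_eq_prime (by rw [sq]; exact hg) hne))
  set g0 := c⁻¹ * g * c
  have hg0 : g0 * g0 = t := by
    calc g0 * g0 = c⁻¹ * (g * g) * c := by simp only [g0]; group
      _ = t := by rw [← hc]; group
  have hmem : g0 ∈ normalizer ((P : Subgroup G) : Set G) := by
    rw [← F.Nt, mem_centralizer_singleton_iff, ← hg0]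
    exact (mul_assoc _ _ _).symm
  by_cases hC : g0 ∈ centralizer (P : Set G)
  · have hp := F.ctx.sq_mem hC
    rw [hg0] at hp
    exact odd_card P (F.t_order ▸ ((P : Subgroup G).orderOf_dvd_natCard hp))
  · have := (F.outer g0 hmem hC).1
    rw [hg0] at this
    exact F.t_ne this

theorem Facts.exists_pair (F : Facts P t) {i : G} (hi : i ∈ rSet P) :
    ∃ h ∈ hSet P t, ∃ s ∈ sSet P t, h * s * h⁻¹ * t = i := by
  classical
  simp only [rSet, Finset.mem_filter, Finset.mem_univ, true_and] at hi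
  have hii : i * i = 1 := by rw [← sq, ← hi.1, pow_orderOf_eq_one]
  set g := i * t with hg
  have hgi : i * g * i⁻¹ = g⁻¹ := by
    rw [hg, mul_inv_rev, inv_eq_of_mul_eq_one_right F.tt, inv_eq_of_mul_eq_one_right hii,
      show i * (i * t) * i = i * i * (t * i) by group, hii, one_mul]
  have hgt : t * g * t⁻¹ = g⁻¹ := by
    rw [hg, mul_inv_rev, inv_eq_of_mul_eq_one_right F.tt, inv_eq_of_mul_eq_one_right hii,
      show t * (i * t) * t = t * i * (t * t) by group, F.tt, mul_one]
  have hncomm : g * g ≠ 1 := fun e => hi.2 (by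
    rw [← F.Nt, mem_centralizer_singleton_iff]
    calc i * t = g := hg.symm
      _ = g⁻¹ := eq_inv_of_mul_eq_one_left e
      _ = t * i := by rw [hg, mul_inv_rev, inv_eq_of_mul_eq_one_right F.tt, inv_eq_of_mul_eq_one_right hii])
  set M := closure ({i, t} : Set G)
  have hiM : i ∈ M := subset_closure (Or.inl rfl)
  have htM : t ∈ M := subset_closure (Or.inr rfl)
  have hMtop : M ≠ ⊤ := by
    intro etop
    have hnorm : (zpowers g).Normal := by
      rw [← normalizer_eq_top_iff, eq_top_iff, ← etop, closure_le]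
      intro x hx
      have hx' : x * g * x⁻¹ = g⁻¹ := by
        rcases hx with rfl | rfl
        · exact hgi
        · exact hgt
      rw [SetLike.mem_coe, mem_normalizer_iff]
      intro y
      constructor
      · rintro ⟨m, rfl⟩
        exact ⟨-m, by show g ^ (-m) = x * g ^ m * x⁻¹; rw [← conj_zpow, hx', inv_zpow, zpow_neg]⟩
      · rintro ⟨m, hm⟩
        refine ⟨-m, ?_⟩
        apply mul_left_cancel (a := x); apply mul_right_cancel (b := x⁻¹)
        rw [← conj_zpow, hx', inv_zpow, zpow_neg, inv_inv]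
        exact hm
    have hs := F.ctx.simple
    rcases IsSimpleGroup.eq_bot_or_eq_top_of_normal _ hnorm with hb | ht'
    · rw [zpowers_eq_bot] at hb
      exact hncomm (by rw [hb, mul_one])
    · have hc : t * g = g * t := by
        obtain ⟨m, hm⟩ : t ∈ zpowers g := ht' ▸ mem_top t
        rw [← show g ^ m = t from hm]
        exact (Commute.refl g).zpow_left m
      rw [hc, mul_inv_cancel_right] at hgt
      exact hncomm (by nth_rewrite 2 [hgt]; rw [mul_inv_cancel])
  have hMd := F.ctx.heven M hMtop (F.t_order ▸ M.orderOf_dvd_natCard htM)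
  have hgd : orderOf g ∣ 4 * Nat.card P := (M.orderOf_dvd_natCard (mul_mem hiM htM)).trans hMd
  set x := g ^ 4 with hx
  obtain ⟨a, ha⟩ := (IsPGroup.iff_card).1 P.2
  have hxa : x ^ 3 ^ a = 1 := by
    rw [hx, ← pow_mul, ← ha]; exact orderOf_dvd_iff_pow_eq_one.1 hgd
  have hx1 : x ≠ 1 := fun e => hncomm (F.no_four (by rw [← sq, ← sq, ← pow_mul]; exact e))
  obtain ⟨T, hT⟩ := (IsPGroup.of_card (p := 3) (G := zpowers x) (n := (orderOf x).factorization 3) (by
    rw [Nat.card_zpowers]
    obtain ⟨j, -, hj⟩ := (Nat.dvd_prime_pow Nat.prime_three).1 (orderOf_dvd_of_pow_eq_one hxa)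
    rw [hj, Nat.Prime.factorization_pow Nat.prime_three, Finsupp.single_eq_same])).exists_le_sylow
  obtain ⟨c, hc⟩ := MulAction.exists_smul_eq G T P
  set h := c⁻¹
  have hx0 : h⁻¹ * x * h ∈ (P : Subgroup G) := by
    rw [← hc, inv_inv]
    exact Subgroup.smul_mem_pointwise_smul x (MulAut.conj c) _ (hT (mem_zpowers x))
  have hx01 : h⁻¹ * x * h ≠ 1 := fun e => hx1 (by
    calc x = h * (h⁻¹ * x * h) * h⁻¹ := by group
      _ = 1 := by rw [e]; group)
  set s := h⁻¹ * g * h
  have hsC : s ∈ centralizer (P : Set G) := by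
    rw [← F.cent _ hx0 hx01, mem_centralizer_singleton_iff]
    simp only [s, hx]; group
  have hs4 : s ^ 4 = h⁻¹ * x * h := by
    simp only [s, hx]
    have := conj_pow (a := h⁻¹) (b := g) (i := 4)
    rw [inv_inv] at this
    simpa [h] using this
  set j := h⁻¹ * t * h
  have hjx : j * (h⁻¹ * x * h) * j⁻¹ = (h⁻¹ * x * h)⁻¹ := by
    simp only [j, hx]
    calc h⁻¹ * t * h * (h⁻¹ * g ^ 4 * h) * (h⁻¹ * t * h)⁻¹ = h⁻¹ * (t * g ^ 4 * t⁻¹) * h := by group
      _ = h⁻¹ * (g⁻¹) ^ 4 * h := by rw [← conj_pow, hgt]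
      _ = _ := by group
  have hjN : j ∈ normalizer ((P : Subgroup G) : Set G) :=
    F.ctx.mem_N (F.ctx.le_centralizer hx0) hx01 (by rw [hjx]; exact inv_mem (F.ctx.le_centralizer hx0))
  have hjC : j ∉ centralizer (P : Set G) := by
    intro e
    rw [mem_centralizer_iff.1 e _ hx0 |>.symm, mul_inv_cancel_right] at hjx
    refine odd_card P ?_
    rw [← orderOf_eq_prime (show (h⁻¹ * x * h) ^ 2 = 1 by rw [sq]; nth_rewrite 2 [hjx]; rw [mul_inv_cancel]) hx01]
    exact (P : Subgroup G).orderOf_dvd_natCard hx0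
  refine ⟨h, by simp only [hSet, Finset.mem_filter, Finset.mem_univ, true_and]; exact ⟨hjN, hjC⟩, s, ?_, ?_⟩
  · simp only [sSet, Finset.mem_filter, Finset.mem_univ, true_and]
    refine ⟨hsC, fun e => hx01 (by rw [← hs4, e, one_pow]), fun e => hx01 ?_⟩
    rw [← hs4, e, show t ^ 4 = t * t * (t * t) by rw [← sq, ← sq, ← pow_mul], F.tt, mul_one]
  · simp only [s, hg]
    rw [show h * (h⁻¹ * (i * t) * h) * h⁻¹ * t = i * (t * t) by group, F.tt, mul_one]

theorem Facts.card_fiber_pair (F : Facts P t) [DecidableEq G] {i : G} (hi : i ∈ rSet P) :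
    ((hSet P t ×ˢ sSet P t).filter fun p => p.1 * p.2 * p.1⁻¹ * t = i).card = 4 * Nat.card P := by
  classical
  obtain ⟨h, hh, s, hs, rfl⟩ := F.exists_pair hi
  rw [← F.ctx.hN, Nat.card_eq_fintype_card, Fintype.card_subtype]
  refine Finset.card_bij (fun p _ => h⁻¹ * p.1) (fun p hp => ?_) (fun p hp q hq e => ?_) (fun n hn => ?_)
  · simp only [Finset.mem_filter, Finset.mem_univ, true_and, Finset.mem_product, sSet] at hp hs ⊢
    refine F.ctx.mem_N hp.1.2.1 hp.1.2.2.1 ?_
    have := mul_right_cancel hp.2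
    rw [show h⁻¹ * p.1 * p.2 * (h⁻¹ * p.1)⁻¹ = h⁻¹ * (p.1 * p.2 * p.1⁻¹) * h by group, this]
    simpa [mul_assoc] using hs.1
  · have e1 : p.1 = q.1 := mul_left_cancel e
    have h1 := mul_right_cancel ((Finset.mem_filter.1 hp).2.trans (Finset.mem_filter.1 hq).2.symm)
    rw [e1] at h1
    exact Prod.ext e1 (mul_left_cancel (mul_right_cancel h1))
  · simp only [Finset.mem_filter, Finset.mem_univ, true_and] at hn
    simp only [sSet, hSet, Finset.mem_filter, Finset.mem_univ, true_and] at hh hs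
    set C := centralizer (P : Set G)
    set N := normalizer ((P : Subgroup G) : Set G)
    have hcN : ∀ y : G, y ∈ C → n⁻¹ * y * n ∈ C := fun y hy => by
      by_cases hnC : n ∈ C
      · exact mul_mem (mul_mem (inv_mem hnC) hy) hnC
      · have := F.inv_of_outer (inv_mem hn) (fun e => hnC (inv_mem_iff.1 e)) hy
        rw [inv_inv] at this
        rw [this]; exact inv_mem hy
    refine ⟨(h * n, n⁻¹ * s * n), ?_, by group⟩
    simp only [Finset.mem_filter, Finset.mem_product, hSet, sSet, Finset.mem_univ, true_and]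
    refine ⟨⟨⟨?_, fun e => ?_⟩, ?_, ?_, ?_⟩, by group⟩
    · rw [show (h * n)⁻¹ * t * (h * n) = n⁻¹ * (h⁻¹ * t * h) * n by group]
      exact mul_mem (mul_mem (inv_mem hn) hh.1) hn
    · refine hh.2 ?_
      have h2 : n * ((h * n)⁻¹ * t * (h * n)) * n⁻¹ ∈ C := by
        by_cases hnC : n ∈ C
        · exact mul_mem (mul_mem hnC e) (inv_mem hnC)
        · rw [F.inv_of_outer hn hnC e]; exact inv_mem e
      rwa [show n * ((h * n)⁻¹ * t * (h * n)) * n⁻¹ = h⁻¹ * t * h by group] at h2
    · exact hcN s hs.1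
    · intro e
      refine hs.2.1 ?_
      calc s = n * (n⁻¹ * s * n) * n⁻¹ := by group
        _ = 1 := by rw [e]; group
    · intro e
      refine hs.2.2 ?_
      have hnt : n * t = t * n := mem_centralizer_singleton_iff.1 (F.Nt.ge hn)
      calc s = n * (n⁻¹ * s * n) * n⁻¹ := by group
        _ = t := by rw [e, hnt, mul_inv_cancel_right]

theorem Facts.card_sSet (F : Facts P t) : (sSet P t).card + 2 = 2 * Nat.card P := by
  classical
  rw [← F.ctx.hC, Nat.card_eq_fintype_card, Fintype.card_subtype]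
  have e : sSet P t = (Finset.univ.filter fun s : G => s ∈ centralizer (P : Set G)) \ {1, t} := by
    ext s; simp [sSet, and_assoc]
  have hsub : ({1, t} : Finset G) ⊆ Finset.univ.filter fun s : G => s ∈ centralizer (P : Set G) := by
    intro s hs
    simp only [Finset.mem_insert, Finset.mem_singleton] at hs
    simp only [Finset.mem_filter, Finset.mem_univ, true_and]
    rcases hs with rfl | rfl
    · exact one_mem _
    · exact F.tC
  have h2 : ({1, t} : Finset G).card = 2 := Finset.card_pair F.t_ne.symm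
  have hle := Finset.card_le_card hsub
  rw [e, Finset.card_sdiff_of_subset hsub, h2]
  rw [h2] at hle
  omega

/-- The order of `G`. -/
theorem Facts.card_G (F : Facts P t) :
    ∃ I : ℕ, Nat.card G = 4 * Nat.card P * I ∧ I + 2 * Nat.card P = 4 * Nat.card P * Nat.card P + 1 := by
  classical
  set inv := Finset.univ.filter fun i : G => orderOf i = 2
  refine ⟨inv.card, ?_, ?_⟩
  · rw [Nat.card_eq_fintype_card, ← Finset.card_univ,
      Finset.card_eq_sum_card_fiberwise (f := fun a : G => a * t * a⁻¹) (t := inv) (s := Finset.univ)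
      (fun a _ => by simp [inv, Invol.orderOf_conj, F.t_order]), Finset.sum_const_nat (m := 4 * Nat.card P) (fun i hi => ?_), mul_comm]
    exact F.card_fiber_conj (F.conj_t i (by simpa [inv] using hi))
  have hR : (rSet P).card = 2 * Nat.card P * (sSet P t).card := by
    have h := Finset.card_eq_sum_card_fiberwise (f := fun p : G × G => p.1 * p.2 * p.1⁻¹ * t)
      (t := rSet P) (s := hSet P t ×ˢ sSet P t)
      (fun p hp => F.mem_rSet_of (Finset.mem_product.1 hp).1 (Finset.mem_product.1 hp).2)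
    rw [Finset.sum_const_nat (m := 4 * Nat.card P) fun i hi => F.card_fiber_pair hi,
      Finset.card_product, F.card_hSet] at h
    exact Nat.eq_of_mul_eq_mul_right (Nat.mul_pos (show 0 < 4 by norm_num) (Nat.card_pos (α := P))) (by rw [← h]; ring)
  set N := normalizer ((P : Subgroup G) : Set G)
  have hout : inv.filter (fun i => i ∈ N) = insert t (Finset.univ.filter fun n : G => n ∈ N ∧ n ∉ centralizer (P : Set G)) := by
    ext i
    simp only [inv, Finset.mem_filter, Finset.mem_univ, true_and, Finset.mem_insert]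
    constructor
    · rintro ⟨h2, hN⟩
      by_cases hC : i ∈ centralizer (P : Set G)
      · left
        refine (F.uniq i hC (by rw [← sq, ← h2, pow_orderOf_eq_one])).resolve_left fun e => ?_
        rw [e, orderOf_one] at h2; norm_num at h2
      · exact Or.inr ⟨hN, hC⟩
    · rintro (rfl | ⟨hN, hC⟩)
      · exact ⟨F.t_order, F.ctx.centralizer_le F.tC⟩
      · exact ⟨orderOf_eq_prime (by rw [sq]; exact (F.outer i hN hC).1) (F.outer_mul_ne_one hC), hN⟩
  have hcard_out : (Finset.univ.filter fun n : G => n ∈ N ∧ n ∉ centralizer (P : Set G)).card = 2 * Nat.card P := by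
    have e : (Finset.univ.filter fun n : G => n ∈ N ∧ n ∉ centralizer (P : Set G)) =
        (Finset.univ.filter fun n : G => n ∈ N) \
        (Finset.univ.filter fun n : G => n ∈ centralizer (P : Set G)) := by ext g; simp
    rw [e, Finset.card_sdiff_of_subset (fun g hg => by simp at hg ⊢; exact F.ctx.centralizer_le hg),
      ← Fintype.card_subtype, ← Fintype.card_subtype, ← Nat.card_eq_fintype_card, ← Nat.card_eq_fintype_card,
      show Nat.card {x // x ∈ N} = _ from F.ctx.hN,
      show Nat.card {x // x ∈ centralizer (P : Set G)} = _ from F.ctx.hC]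
    omega
  have hsplit := Finset.card_filter_add_card_filter_not (s := inv) (fun i => i ∈ N)
  rw [show inv.filter (fun i => ¬ i ∈ N) = rSet P by ext i; simp [inv, rSet, N], hout,
    Finset.card_insert_of_notMem (by simp [F.tC]), hcard_out, hR] at hsplit
  have hs := F.card_sSet
  rw [← hsplit]
  nlinarith [hs]

/-- The square map from `C` to `P`. -/
noncomputable def sqHom (F : Facts P t) : centralizer (P : Set G) →* (P : Subgroup G) :=
  MonoidHom.mk' (fun s => ⟨(s : G) * s, F.ctx.sq_mem s.2⟩) fun a b => Subtype.ext (by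
    show (a : G) * b * ((a : G) * b) = (a : G) * a * ((b : G) * b)
    rw [mul_assoc, ← mul_assoc (b : G), F.ctx.comm_C _ b.2 _ a.2]; group)

theorem sqHom_t (F : Facts P t) : sqHom F ⟨t, F.tC⟩ = 1 := Subtype.ext F.tt

theorem sqHom_surjective (F : Facts P t) : Function.Surjective (sqHom F) := fun x => by
  obtain ⟨a, ha⟩ := (IsPGroup.iff_card).1 P.2
  have hodd : Odd (3 ^ a) := (by norm_num : Odd 3).pow
  obtain ⟨m, hm⟩ := hodd
  refine ⟨⟨(x : G) ^ (m + 1), pow_mem (F.ctx.le_centralizer x.2) _⟩, Subtype.ext ?_⟩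
  show (x : G) ^ (m + 1) * (x : G) ^ (m + 1) = x
  rw [← pow_add, show m + 1 + (m + 1) = 2 * m + 1 + 1 by ring, pow_succ, ← hm, ← ha]
  have := congrArg Subtype.val (pow_card_eq_one' (x := x))
  simp only [SubmonoidClass.coe_pow, OneMemClass.coe_one] at this
  rw [this, one_mul]

/-- The linear character of `C` attached to a character of `P`. -/
noncomputable def muOf (F : Facts P t) (ν : (P : Subgroup G) →* ℂˣ) : centralizer (P : Set G) →* ℂˣ :=
  ν.comp (sqHom F)

theorem muOf_t (F : Facts P t) (ν : (P : Subgroup G) →* ℂˣ) : muOf F ν ⟨t, F.tC⟩ = 1 := by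
  show ν (sqHom F ⟨t, F.tC⟩) = 1
  rw [sqHom_t, map_one]

theorem muOf_injective (F : Facts P t) : Function.Injective (muOf F) := fun a b e =>
  MonoidHom.ext fun x => by
    obtain ⟨s, rfl⟩ := sqHom_surjective F x
    exact DFunLike.congr_fun e s

theorem muOf_one (F : Facts P t) : muOf F 1 = 1 := MonoidHom.ext fun _ => rfl

theorem muOf_mul (F : Facts P t) (a b : (P : Subgroup G) →* ℂˣ) : muOf F (a * b) = muOf F a * muOf F b :=
  MonoidHom.ext fun _ => rfl

theorem muOf_inv (F : Facts P t) (a : (P : Subgroup G) →* ℂˣ) : muOf F a⁻¹ = (muOf F a)⁻¹ :=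
  MonoidHom.ext fun _ => rfl

theorem Facts.mul_self_ne_one (F : Facts P t) {ν : (P : Subgroup G) →* ℂˣ} (hν : ν ≠ 1) : ν * ν ≠ 1 := fun e => hν (by
  refine MonoidHom.ext fun x => ?_
  obtain ⟨s, rfl⟩ := sqHom_surjective F x
  rw [show sqHom F s = (⟨(s : G) * s, F.ctx.sq_mem s.2⟩ : (P : Subgroup G)) from rfl]
  obtain ⟨y, hy⟩ := sqHom_surjective F (sqHom F s)
  -- every element is a square in `P`
  obtain ⟨a, ha⟩ := (IsPGroup.iff_card).1 P.2
  have hodd : Odd (3 ^ a) := (by norm_num : Odd 3).pow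
  obtain ⟨m, hm⟩ := hodd
  set z : (P : Subgroup G) := sqHom F s
  have hz : ν z = (ν * ν) (z ^ (m + 1)) := by
    show _ = ν (z ^ (m + 1)) * ν (z ^ (m + 1))
    rw [← map_mul, ← pow_add, show m + 1 + (m + 1) = 2 * m + 1 + 1 by ring, pow_succ, ← hm, ← ha, pow_card_eq_one', one_mul]
  show ν z = 1
  rw [hz, e]; rfl)

theorem Facts.sectionData (F : Facts P t) (ν : (P : Subgroup G) →* ℂˣ) :
    Invol.SectionData (centralizer (P : Set G)) (muOf F ν) (normalizer ((P : Subgroup G) : Set G)) where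
  le := F.ctx.centralizer_le
  card := by rw [F.ctx.hN, F.ctx.hC]; ring
  ti x hx g h _ := F.ctx.mem_N x.2 (fun e => hx (by rw [show x = 1 from Subtype.ext e, map_one])) h
  act g hg x := by
    by_cases hgC : g ∈ centralizer (P : Set G)
    · have e : g * (x : G) * g⁻¹ = x := by rw [F.ctx.comm_C _ hgC _ x.2, mul_inv_cancel_right]
      refine ⟨by rw [e]; exact x.2, fun _ => ?_, fun h => absurd hgC h⟩
      exact congrArg _ (Subtype.ext e)
    · have e := F.inv_of_outer hg hgC x.2
      refine ⟨by rw [e]; exact inv_mem x.2, fun h => absurd h hgC, fun _ => ?_⟩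
      rw [← map_inv]
      exact congrArg _ (Subtype.ext e)

/-- The exceptional generalized character. -/
noncomputable def excFun (F : Facts P t) (ν : (P : Subgroup G) →* ℂˣ) : G → ℂ :=
  Invol.secInd (centralizer (P : Set G)) (muOf F ν)

theorem Facts.excFun_involution (F : Facts P t) (ν : (P : Subgroup G) →* ℂˣ) {g : G} (hg : g * g = 1) :
    excFun F ν g = 0 := by
  refine Invol.secInd_eq_zero _ _ fun x hx => ?_
  have h2 : x * g * x⁻¹ * (x * g * x⁻¹) = 1 := by
    rw [show x * g * x⁻¹ * (x * g * x⁻¹) = x * (g * g) * x⁻¹ by group, hg]; group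
  rcases F.uniq _ hx h2 with e | e
  · rw [show (⟨x * g * x⁻¹, hx⟩ : centralizer (P : Set G)) = 1 from Subtype.ext e, map_one]
  · rw [show (⟨x * g * x⁻¹, hx⟩ : centralizer (P : Set G)) = ⟨t, F.tC⟩ from Subtype.ext e, muOf_t]

theorem Facts.excFun_coe (F : Facts P t) (ν : (P : Subgroup G) →* ℂˣ) (x : centralizer (P : Set G)) :
    excFun F ν (x : G) = 2 - (muOf F ν x : ℂ) - (muOf F ν x : ℂ)⁻¹ := by
  by_cases hx : muOf F ν x = 1
  · rw [hx]
    norm_num
    refine Invol.secInd_eq_zero _ _ fun g hg => ?_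
    by_cases h1 : (x : G) = 1
    · rw [show (⟨g * (x : G) * g⁻¹, hg⟩ : centralizer (P : Set G)) = 1 from Subtype.ext (by simp [h1]), map_one]
    · obtain ⟨h, ha, hb⟩ := (F.sectionData ν).act g (F.ctx.mem_N x.2 h1 hg) x
      by_cases hgC : g ∈ centralizer (P : Set G)
      · rw [ha hgC, hx]
      · rw [hb hgC, hx, inv_one]
  · exact (F.sectionData ν).secInd_eq hx

theorem Facts.conj_mu (F : Facts P t) (ν : (P : Subgroup G) →* ℂˣ) (x : centralizer (P : Set G)) :
    conj (muOf F ν x : ℂ) = (muOf F ν x : ℂ)⁻¹ := by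
  have hc := Char.IsChar.inv_eq_conj (Char.isCharacter_hom (muOf F ν)) x
  simp only [map_inv, Units.val_inv_eq_inv_val] at hc
  exact hc.symm

theorem Facts.classInner_cross (F : Facts P t) {ν ν' : (P : Subgroup G) →* ℂˣ} (hν : ν ≠ 1) (hν' : ν' ≠ 1)
    (h1 : ν' ≠ ν) (h2 : ν' ≠ ν⁻¹) :
    Cfsg.classInner (excFun F ν) (excFun F ν') = 2 := by
  classical
  haveI : Fintype (centralizer (P : Set G)) := Fintype.ofFinite _
  show Cfsg.classInner (Invol.secInd _ (muOf F ν)) _ = _
  rw [Invol.secInd, Char.classInner_indFun_left (χ := excFun F ν') _ _ (Char.IsGen.isClassFunction (Invol.isGeneralized_secInd _ _)),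
    Cfsg.classInner]
  have key : ∀ x : centralizer (P : Set G), (1 - (muOf F ν x : ℂ)) * conj (excFun F ν' (x : G)) =
      2 - (((muOf F ν')⁻¹) x : ℂ) - (muOf F ν' x : ℂ) - 2 * (muOf F ν x : ℂ)
        + (((muOf F ν) * (muOf F ν')⁻¹) x : ℂ) + ((muOf F ν * muOf F ν') x : ℂ) := fun x => by
    rw [F.excFun_coe]
    simp only [map_sub, map_ofNat, map_inv₀, F.conj_mu, inv_inv, MonoidHom.inv_apply, MonoidHom.mul_apply,
      Units.val_inv_eq_inv_val, Units.val_mul]
    ring
  simp only [key, Finset.sum_add_distrib, Finset.sum_sub_distrib, ← Finset.mul_sum]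
  have hz : ∀ a : (P : Subgroup G) →* ℂˣ, a ≠ 1 → ∑ x, ((muOf F a) x : ℂ) = 0 := fun a ha =>
    Invol.sum_hom_coe _ fun e => ha (muOf_injective F (e.trans (muOf_one F).symm))
  rw [← muOf_inv, ← muOf_mul, ← muOf_mul, hz _ hν, hz _ hν',
    hz _ (fun e => hν' (MonoidHom.ext fun x => inv_eq_one.1 (DFunLike.congr_fun e x))),
    hz _ (fun e => h1 (MonoidHom.ext fun x => (mul_inv_eq_one.1 (DFunLike.congr_fun e x)).symm)),
    hz _ (fun e => h2 (MonoidHom.ext fun x => eq_inv_of_mul_eq_one_right (DFunLike.congr_fun e x)))]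
  simp only [Finset.sum_const, Finset.card_univ, nsmul_eq_mul, mul_zero, sub_zero, add_zero,
    ← Nat.card_eq_fintype_card]
  rw [← mul_assoc, inv_mul_cancel₀ (Nat.cast_ne_zero.2 Nat.card_pos.ne'), one_mul]

theorem Facts.sum_value (F : Facts P t) {ν : (P : Subgroup G) →* ℂˣ} (hν : ν ≠ 1) :
    ∑ a : G, excFun F ν (a * t * a⁻¹ * t) = 32 * (Nat.card P : ℂ) ^ 3 := by
  classical
  set inv := Finset.univ.filter fun i : G => orderOf i = 2
  have hconjsum : ∑ a : G, excFun F ν (a * t * a⁻¹ * t) =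
      (4 * Nat.card P : ℕ) * ∑ i ∈ inv, excFun F ν (i * t) := by
    rw [← Finset.sum_fiberwise_of_maps_to (g := fun a : G => a * t * a⁻¹) (t := inv)
      (fun a _ => by simp [inv, Invol.orderOf_conj, F.t_order]) (fun a => excFun F ν (a * t * a⁻¹ * t)), Finset.mul_sum]
    refine Finset.sum_congr rfl fun i hi => ?_
    rw [Finset.sum_congr rfl (g := fun _ => excFun F ν (i * t)) fun a ha => by rw [(Finset.mem_filter.1 ha).2],
      Finset.sum_const, nsmul_eq_mul, F.card_fiber_conj (F.conj_t i (by simpa [inv] using hi))]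
  set N := normalizer ((P : Subgroup G) : Set G)
  have hzero : ∀ i ∈ inv.filter (fun i => i ∈ N), excFun F ν (i * t) = 0 := fun i hi => by
    simp only [inv, Finset.mem_filter, Finset.mem_univ, true_and] at hi
    refine F.excFun_involution ν ?_
    have h1 : t * i = i * t := (mem_centralizer_singleton_iff.1 (F.Nt.ge hi.2)).symm
    rw [show i * t * (i * t) = i * (t * i) * t by group, h1, show i * (i * t) * t = i * i * (t * t) by group,
      F.tt, ← sq, ← hi.1, pow_orderOf_eq_one, mul_one]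
  rw [hconjsum, ← Finset.sum_filter_add_sum_filter_not inv (fun i => i ∈ N), Finset.sum_eq_zero hzero, zero_add,
    show inv.filter (fun i => ¬ i ∈ N) = rSet P by ext i; simp [inv, rSet, N]]
  have hfib : ((4 * Nat.card P : ℕ) : ℂ) * ∑ i ∈ rSet P, excFun F ν (i * t) =
      ∑ p ∈ hSet P t ×ˢ sSet P t, excFun F ν p.2 := by
    rw [← Finset.sum_fiberwise_of_maps_to (g := fun p : G × G => p.1 * p.2 * p.1⁻¹ * t) (t := rSet P)
      (fun p hp => F.mem_rSet_of (Finset.mem_product.1 hp).1 (Finset.mem_product.1 hp).2) (fun p => excFun F ν p.2),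
      Finset.mul_sum]
    refine Finset.sum_congr rfl fun i hi => ?_
    rw [Finset.sum_congr rfl (g := fun _ => excFun F ν (i * t)) fun p hp => ?_, Finset.sum_const, nsmul_eq_mul,
      F.card_fiber_pair hi]
    rw [← (Finset.mem_filter.1 hp).2, mul_assoc _ t t, F.tt, mul_one]
    exact ((Char.IsGen.isClassFunction (Invol.isGeneralized_secInd _ _)) p.2 p.1).symm
  rw [hfib, Finset.sum_product]
  simp only [Finset.sum_const, nsmul_eq_mul]
  rw [F.card_hSet]
  haveI : Fintype (centralizer (P : Set G)) := Fintype.ofFinite _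
  have hC : ∑ s ∈ sSet P t, excFun F ν s = ∑ x : centralizer (P : Set G), excFun F ν (x : G) := by
    rw [show ∑ x : centralizer (P : Set G), excFun F ν (x : G) =
      ∑ s ∈ Finset.univ.filter (fun s : G => s ∈ centralizer (P : Set G)), excFun F ν s from
      (Finset.sum_subtype (Finset.univ.filter fun s : G => s ∈ centralizer (P : Set G)) (by simp) _).symm]
    refine Finset.sum_subset (fun s hs => by simp [sSet] at hs ⊢; exact hs.1) fun s hs hs' => ?_
    simp only [sSet, Finset.mem_filter, Finset.mem_univ, true_and] at hs hs'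
    refine F.excFun_involution ν ?_
    by_cases h1 : s = 1
    · rw [h1, mul_one]
    by_cases h2 : s = t
    · rw [h2, F.tt]
    exact absurd ⟨hs, h1, h2⟩ hs'
  have hne : muOf F ν ≠ 1 := fun e => hν (muOf_injective F (e.trans (muOf_one F).symm))
  have hinv : (muOf F ν)⁻¹ ≠ 1 := fun e => hne (MonoidHom.ext fun x => inv_eq_one.1 (DFunLike.congr_fun e x))
  have hval : ∀ x : centralizer (P : Set G), excFun F ν (x : G) = 2 - (muOf F ν x : ℂ) - (((muOf F ν)⁻¹) x : ℂ) :=
    fun x => by rw [F.excFun_coe]; simp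
  rw [hC, Finset.sum_congr rfl fun x _ => hval x, Finset.sum_sub_distrib, Finset.sum_sub_distrib,
    Invol.sum_hom_coe _ hne, Invol.sum_hom_coe _ hinv, Finset.sum_const, Finset.card_univ, nsmul_eq_mul,
    ← Nat.card_eq_fintype_card, F.ctx.hC]
  push_cast
  ring

/-- The data carried by one exceptional generalized character. -/
theorem Facts.exists_exceptional (F : Facts P t) {ν : (P : Subgroup G) →* ℂˣ} (hν : ν ≠ 1) :
    ∃ (x y : Cfsg.IrrCharacter G) (a b : ℤ), x ≠ y ∧ (a = 1 ∨ a = -1) ∧ (b = 1 ∨ b = -1) ∧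
      Cfsg.classInner (excFun F ν) (x : G → ℂ) = a ∧ Cfsg.classInner (excFun F ν) (y : G → ℂ) = b ∧
      a * (Cfsg.charDegree (x : G → ℂ) : ℤ) + b * (Cfsg.charDegree (y : G → ℂ) : ℤ) = -1 ∧
      (∃ D : ℕ, (Nat.card G) * D ^ 2 = 32 * Nat.card P ^ 3 * (Cfsg.charDegree (x : G → ℂ) * Cfsg.charDegree (y : G → ℂ))) ∧
      (∀ f : Cfsg.IrrCharacter G → ℂ,
        ∑ χ : Cfsg.IrrCharacter G, Cfsg.classInner (excFun F ν) (χ : G → ℂ) * f χ =
          f ⟨fun _ => 1, Char.isIrrCharacter_one⟩ + a * f x + b * f y) ∧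
      (x : G → ℂ) ≠ (fun _ => 1) ∧ (y : G → ℂ) ≠ (fun _ => 1) := by
  classical
  have hμ : muOf F ν ≠ 1 := fun e => hν (muOf_injective F (e.trans (muOf_one F).symm))
  have hμ2 : muOf F ν * muOf F ν ≠ 1 := by
    rw [← muOf_mul]; exact fun e => F.mul_self_ne_one hν (muOf_injective F (e.trans (muOf_one F).symm))
  obtain ⟨S, s, hS, hsS, -, hinner, hexp⟩ := Invol.exists_signed_support
    (Invol.isGeneralized_secInd (centralizer (P : Set G)) (muOf F ν)) (n := 3) (by norm_num)
    (Invol.classInner_secInd_one hμ) (by simpa using ((F.sectionData ν).classInner_self hμ).1 hμ2)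
  obtain ⟨x, y, hxy, rfl⟩ := Finset.card_eq_two.1 (show S.card = 2 by omega)
  obtain ⟨nx, hax⟩ := hsS x (Finset.mem_insert_self _ _)
  obtain ⟨ny, hby⟩ := hsS y (Finset.mem_insert_of_mem (Finset.mem_singleton_self _))
  obtain ⟨a, ha, hsa⟩ : ∃ a : ℤ, (a = 1 ∨ a = -1) ∧ s x = a := by
    rcases hax with e | e
    · exact ⟨1, Or.inl rfl, by simp [e]⟩
    · exact ⟨-1, Or.inr rfl, by simp [e]⟩
  obtain ⟨b, hb, hsb⟩ : ∃ b : ℤ, (b = 1 ∨ b = -1) ∧ s y = b := by
    rcases hby with e | e
    · exact ⟨1, Or.inl rfl, by simp [e]⟩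
    · exact ⟨-1, Or.inr rfl, by simp [e]⟩
  have hexp' : ∀ f : Cfsg.IrrCharacter G → ℂ,
      ∑ χ : Cfsg.IrrCharacter G, Cfsg.classInner (excFun F ν) (χ : G → ℂ) * f χ =
        f ⟨fun _ => 1, Char.isIrrCharacter_one⟩ + a * f x + b * f y := fun f => by
    rw [show Cfsg.classInner (excFun F ν) = Cfsg.classInner (Invol.secInd _ (muOf F ν)) from rfl, hexp f,
      Finset.sum_pair hxy, hsa, hsb]
    ring
  have hcf : Cfsg.IsClassFunction G (excFun F ν) := Char.IsGen.isClassFunction (Invol.isGeneralized_secInd _ _)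
  obtain ⟨hdx, hdx0⟩ := CharArith.irr_degree_spec x
  obtain ⟨hdy, hdy0⟩ := CharArith.irr_degree_spec y
  set dx := Cfsg.charDegree (x : G → ℂ)
  set dy := Cfsg.charDegree (y : G → ℂ)
  obtain ⟨ex, hex⟩ := exists_int_value x.2 F.t_order
  obtain ⟨ey, hey⟩ := exists_int_value y.2 F.t_order
  -- values at `1` and `t`
  have h1 : a * (dx : ℤ) + b * (dy : ℤ) = -1 := by
    have h := hexp' (fun χ => (χ : G → ℂ) 1)
    rw [Invol.apply_eq_sum hcf, F.excFun_involution ν (mul_one 1), hdx, hdy] at h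
    have h' : ((a * (dx : ℤ) + b * (dy : ℤ) : ℤ) : ℂ) = ((-1 : ℤ) : ℂ) := by push_cast; linear_combination -h
    exact_mod_cast h'
  have ht : a * ex + b * ey = -1 := by
    have h := hexp' (fun χ => (χ : G → ℂ) t)
    rw [Invol.apply_eq_sum hcf, F.excFun_involution ν F.tt, hex, hey] at h
    have h' : ((a * ex + b * ey : ℤ) : ℂ) = ((-1 : ℤ) : ℂ) := by push_cast; linear_combination -h
    exact_mod_cast h'
  -- the class algebra identity
  have hkey : (Nat.card G : ℂ) * (1 + a * (ex : ℂ) ^ 2 / dx + b * (ey : ℂ) ^ 2 / dy) = 32 * (Nat.card P : ℂ) ^ 3 := by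
    have h := hexp' (fun χ => (χ : G → ℂ) t ^ 2 / (χ : G → ℂ) 1)
    rw [hdx, hdy, hex, hey] at h
    simp only [one_pow, div_one] at h
    rw [← F.sum_value hν, mul_div_assoc, mul_div_assoc, ← h, Finset.mul_sum]
    have hG : (Nat.card G : ℂ) ≠ 0 := Char.card_ne_zero
    have e : ∀ χ : Cfsg.IrrCharacter G, (χ : G → ℂ) t ^ 2 / (χ : G → ℂ) 1 =
        (Nat.card G : ℂ)⁻¹ * ∑ g, (χ : G → ℂ) (g * t * g⁻¹ * t) := by
      intro χ
      have h := CharArith.classMult χ.2 t t
      have h1 := Char.IsIrr.one_ne_zero χ.2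
      field_simp
      linear_combination -h
    simp only [e]
    rw [Finset.sum_congr rfl fun (χ : Cfsg.IrrCharacter G) _ => show (Nat.card G : ℂ) * (Cfsg.classInner (excFun F ν) (χ : G → ℂ) *
        ((Nat.card G : ℂ)⁻¹ * ∑ g, (χ : G → ℂ) (g * t * g⁻¹ * t))) =
        ∑ g, Cfsg.classInner (excFun F ν) (χ : G → ℂ) * (χ : G → ℂ) (g * t * g⁻¹ * t) by
      rw [← Finset.mul_sum]; field_simp, Finset.sum_comm]
    exact Finset.sum_congr rfl fun g _ => Invol.apply_eq_sum hcf _
  have hx0 : (dx : ℂ) ≠ 0 := Nat.cast_ne_zero.2 hdx0.ne'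
  have hy0 : (dy : ℂ) ≠ 0 := Nat.cast_ne_zero.2 hdy0.ne'
  have ha2 : (a : ℂ) * a = 1 := by rcases ha with e | e <;> simp [e]
  have hb2 : (b : ℂ) * b = 1 := by rcases hb with e | e <;> simp [e]
  have hab : a * b = -1 := by
    rcases ha with e | e <;> rcases hb with e' | e' <;> rw [e, e'] at h1 ⊢ <;> first | rfl | omega
  have hab' : (a : ℂ) * b = -1 := by exact_mod_cast hab
  have h1' : (a : ℂ) * dx + b * dy = -1 := by exact_mod_cast h1
  have ht' : (a : ℂ) * ex + b * ey = -1 := by exact_mod_cast ht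
  have hfin : (Nat.card G : ℂ) * ((a : ℂ) * ex - a * dx) ^ 2 = 32 * (Nat.card P : ℂ) ^ 3 * (dx * dy) := by
    rw [← hkey]
    field_simp
    have hbdy : (b : ℂ) * dy = -1 - a * dx := by linear_combination h1'
    have hbey : (b : ℂ) * ey = -1 - a * ex := by linear_combination ht'
    have hdy' : (dy : ℂ) = b * (-1 - a * dx) := by rw [← hbdy, ← mul_assoc, hb2, one_mul]
    have hey' : (ey : ℂ) = b * (-1 - a * ex) := by rw [← hbey, ← mul_assoc, hb2, one_mul]
    rw [hdy', hey']
    rcases ha with e | e <;> rcases hb with e' | e' <;> rw [e, e'] at hab <;>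
      first | omega | (subst e e'; push_cast; ring)
  refine ⟨x, y, a, b, hxy, ha, hb, ?_, ?_, h1, ⟨(a * ex - a * (dx : ℤ)).natAbs, ?_⟩, hexp', nx, ny⟩
  · exact (hinner x (Finset.mem_insert_self _ _)).trans hsa
  · exact (hinner y (Finset.mem_insert_of_mem (Finset.mem_singleton_self _))).trans hsb
  · have h' : ((Nat.card G : ℤ) * (a * ex - a * (dx : ℤ)) ^ 2 : ℂ) = ((32 * (Nat.card P : ℤ) ^ 3 * ((dx : ℤ) * dy) : ℤ) : ℂ) := by
      push_cast; linear_combination hfin
    have h'' : (Nat.card G : ℤ) * (a * ex - a * (dx : ℤ)) ^ 2 = 32 * (Nat.card P : ℤ) ^ 3 * ((dx : ℤ) * dy) := by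
      exact_mod_cast h'
    have h3 : ((Nat.card G * (a * ex - a * (dx : ℤ)).natAbs ^ 2 : ℕ) : ℤ) = ((32 * Nat.card P ^ 3 * (dx * dy) : ℕ) : ℤ) := by
      push_cast; rw [sq_abs]; exact h''
    exact_mod_cast h3

end Cfsg.Agent.TIHall
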