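import Cfsg.Agent.Invol.SectionInduce
import Cfsg.Agent.CharArith.Central
import Cfsg.Prelude.Def_OddOrderLocal
import Mathlib.GroupTheory.Transfer
import Mathlib.GroupTheory.FiniteAbelian.Duality
import Mathlib.RingTheory.RootsOfUnity.AlgebraicallyClosed

/-!
A simple group with an abelian Sylow `3`-subgroup `P`, normalizer of order `4|P|`, centralizer of
order `2|P|` with the TI property and small even proper subgroups: the local structure.
-/

set_option autoImplicit false

namespace Cfsg.Agent.TIHall

open Subgroup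

variable {G : Type*} [Group G] [Finite G]

/-- The configuration. -/
structure Ctx (P : Sylow 3 G) : Prop where
  simple : IsSimpleGroup G
  ab : IsMulCommutative P
  hN : Nat.card (normalizer ((P : Subgroup G) : Set G)) = 4 * Nat.card P
  hC : Nat.card (centralizer (P : Set G)) = 2 * Nat.card P
  hTI : Cfsg.IsTISubset (centralizer (P : Set G) : Set G)
  heven : ∀ H : Subgroup G, H ≠ ⊤ → 2 ∣ Nat.card H → Nat.card H ∣ 4 * Nat.card P

variable {P : Sylow 3 G}

theorem Ctx.centralizer_le (_h : Ctx P) :
    centralizer (P : Set G) ≤ normalizer ((P : Subgroup G) : Set G) := centralizer_le_normalizer _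

theorem Ctx.le_centralizer (h : Ctx P) : (P : Subgroup G) ≤ centralizer (P : Set G) := by
  have := h.ab
  exact Subgroup.le_centralizer (P : Subgroup G)

theorem odd_card (P : Sylow 3 G) : ¬ 2 ∣ Nat.card P := by
  rw [P.card_eq_multiplicity]
  exact fun e => absurd (Nat.prime_two.dvd_of_dvd_pow e) (by norm_num)

theorem Ctx.comm_C (h : Ctx P) :
    ∀ a ∈ centralizer (P : Set G), ∀ b ∈ centralizer (P : Set G), a * b = b * a := by
  intro a ha b hb
  set C := centralizer (P : Set G)
  have hP : (P : Subgroup G).subgroupOf C ≤ center C := fun x hx => by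
    rw [mem_center_iff]
    exact fun g => Subtype.ext (mem_centralizer_iff.1 g.2 (x : G) hx).symm
  have hind : ((P : Subgroup G).subgroupOf C).index = 2 := by
    have h1 := relIndex_mul_relIndex ⊥ (P : Subgroup G) C bot_le h.le_centralizer
    rw [relIndex_bot_left, relIndex_bot_left, h.hC, mul_comm 2] at h1
    exact Nat.eq_of_mul_eq_mul_left Nat.card_pos h1
  have hcyc : IsCyclic (C ⧸ center C) := by
    have hle : (center C).index ≤ 2 := hind ▸ Nat.le_of_dvd (by rw [hind]; norm_num) (index_dvd_of_le hP)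
    have hpos : 0 < (center C).index := Nat.pos_of_ne_zero FiniteIndex.index_ne_zero
    rcases (show (center C).index = 1 ∨ (center C).index = 2 by omega) with h1 | h2
    · have : Subsingleton (C ⧸ center C) := (Nat.card_eq_one_iff_unique.1 h1).1
      infer_instance
    · exact isCyclic_of_prime_card (hp := ⟨Nat.prime_two⟩) h2
  exact congrArg Subtype.val ((commutative_of_cyclic_center_quotient (QuotientGroup.mk' (center C))
    (by rw [QuotientGroup.ker_mk']) (⟨a, ha⟩ : C) ⟨b, hb⟩))

theorem Ctx.sq_mem (h : Ctx P) {s : G} (hs : s ∈ centralizer (P : Set G)) : s * s ∈ (P : Subgroup G) := by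
  set C := centralizer (P : Set G)
  have hind : ((P : Subgroup G).subgroupOf C).index = 2 := by
    have h1 := relIndex_mul_relIndex ⊥ (P : Subgroup G) C bot_le h.le_centralizer
    rw [relIndex_bot_left, relIndex_bot_left, h.hC, mul_comm 2] at h1
    exact Nat.eq_of_mul_eq_mul_left Nat.card_pos h1
  exact (mul_mem_iff_of_index_two hind (a := (⟨s, hs⟩ : C)) (b := ⟨s, hs⟩)).2 Iff.rfl

/-- Conjugates of nontrivial elements of `C` in `C` come from the normalizer. -/
theorem Ctx.mem_N (h : Ctx P) {x g : G} (hx : x ∈ centralizer (P : Set G)) (hx1 : x ≠ 1)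
    (hgx : g * x * g⁻¹ ∈ centralizer (P : Set G)) : g ∈ normalizer ((P : Subgroup G) : Set G) := by
  have hg : g ∈ normalizer (centralizer (P : Set G) : Set G) := by
    by_contra hg
    exact hx1 (h.hTI g hg x hx hgx)
  set C := centralizer (P : Set G)
  have hle : ∀ a ∈ normalizer (C : Set G), ∀ y ∈ (P : Subgroup G), a * y * a⁻¹ ∈ (P : Subgroup G) := by
    intro a ha y hy
    have hy' : a * y * a⁻¹ ∈ C := (mem_normalizer_iff.1 ha y).1 (h.le_centralizer hy)
    obtain ⟨k, hk⟩ := P.2 ⟨y, hy⟩
    have hyk : y ^ 3 ^ k = 1 := congrArg Subtype.val hk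
    have hs := h.sq_mem hy'
    have hz : (a * y * a⁻¹) ^ 3 ^ k = 1 := by rw [conj_pow, hyk]; group
    have hodd : Odd (3 ^ k) := (by norm_num : Odd 3).pow
    obtain ⟨m, hm⟩ := hodd
    have e : a * y * a⁻¹ = ((a * y * a⁻¹) * (a * y * a⁻¹))⁻¹ ^ m := by
      rw [inv_pow, eq_inv_iff_mul_eq_one, ← sq, ← pow_mul, ← pow_succ', ← hm, hz]
    rw [e]
    exact pow_mem (inv_mem hs) m
  rw [mem_normalizer_iff]
  refine fun y => ⟨fun hy => hle g hg y hy, fun hy => ?_⟩
  have := hle g⁻¹ (inv_mem hg) _ hy
  simpa [mul_assoc] using this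

/-- An element of `C`, other than `1`, of order prime to `2` lies in `P`. -/
theorem Ctx.mem_P_of_pow (h : Ctx P) {y : G} {k : ℕ} (hy : y ∈ normalizer ((P : Subgroup G) : Set G))
    (hyk : y ^ 3 ^ k = 1) : y ∈ (P : Subgroup G) := by
  set N := normalizer ((P : Subgroup G) : Set G)
  haveI : ((P : Subgroup G).subgroupOf N).Normal := normal_in_normalizer
  have hind : ((P : Subgroup G).subgroupOf N).index = 4 := by
    have h1 := relIndex_mul_relIndex ⊥ (P : Subgroup G) N bot_le le_normalizer
    rw [relIndex_bot_left, relIndex_bot_left, h.hN, mul_comm 4] at h1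
    exact Nat.eq_of_mul_eq_mul_left Nat.card_pos h1
  have h1 := pow_index_mem ((P : Subgroup G).subgroupOf N) (⟨y, hy⟩ : N)
  rw [hind, mem_subgroupOf] at h1
  have h4 : Nat.Coprime 4 (3 ^ k) := Nat.Coprime.pow_right _ (by norm_num)
  have e : y ∈ zpowers (y ^ 4) := by
    have hmem : y ∈ Submonoid.powers (y ^ 4) := by
      obtain ⟨m, hm⟩ := exists_pow_eq_self_of_coprime (x := y) (n := 4)
        (h4.coprime_dvd_right (orderOf_dvd_of_pow_eq_one hyk))
      exact ⟨m, hm⟩
    exact mem_zpowers_iff.2 ⟨hmem.choose, by rw [zpow_natCast]; exact hmem.choose_spec⟩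
  exact (zpowers_le.2 (by simpa using h1)) e

theorem Ctx.ne_top (h : Ctx P) {z : G} (hz : z ≠ 1) : centralizer ({z} : Set G) ≠ ⊤ := by
  intro e
  have hs := h.simple
  have hz' : z ∈ center G := mem_center_iff.2 fun g =>
    (mem_centralizer_singleton_iff.1 (e ▸ mem_top g)).symm.symm
  rcases IsSimpleGroup.eq_bot_or_eq_top_of_normal (center G) inferInstance with hb | ht
  · rw [hb, mem_bot] at hz'; exact hz hz'
  · have hC : centralizer (P : Set G) = ⊤ := eq_top_iff.2 fun g _ => mem_centralizer_iff.2 fun y _ =>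
      mem_center_iff.1 (ht ▸ mem_top g : g ∈ center G) y
    have hle := card_le_card_group (normalizer ((P : Subgroup G) : Set G))
    rw [h.hN, ← card_top (G := G), ← hC, h.hC] at hle
    have := Nat.card_pos (α := P)
    omega

/-- No cyclic Sylow `2`-subgroup. -/
theorem Ctx.not_isCyclic (h : Ctx P) (T : Sylow 2 G) : ¬ IsCyclic T := by
  intro hT
  have hs := h.simple
  have h2 : 2 ∣ Nat.card G := dvd_trans ⟨Nat.card P, h.hC⟩ (card_subgroup_dvd_card (centralizer (P : Set G)))
  have hmin : (Nat.card G).minFac = 2 := (Nat.minFac_eq_two_iff _).2 h2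
  have hc := MonoidHom.ker_transferSylow_isComplement' T (IsCyclic.normalizer_le_centralizer hmin hT)
  rcases IsSimpleGroup.eq_bot_or_eq_top_of_normal _ (MonoidHom.normal_ker (MonoidHom.transferSylow T (IsCyclic.normalizer_le_centralizer hmin hT))) with hb | ht
  · rw [hb, isComplement'_bot_left] at hc
    have h3 : 3 ∣ Nat.card T := by
      rw [hc, card_top]
      refine dvd_trans ?_ (card_subgroup_dvd_card (normalizer ((P : Subgroup G) : Set G)))
      rw [h.hN, P.card_eq_multiplicity]
      refine Dvd.dvd.mul_left (dvd_pow_self 3 ?_) 4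
      intro e
      have hcard : Nat.card P = 1 := by rw [P.card_eq_multiplicity, e, pow_zero]
      have hPbot : (P : Subgroup G) = ⊥ := eq_bot_of_card_eq _ hcard
      have hN := h.hN
      rw [hcard, hPbot, normalizer_eq_top_iff.2 inferInstance, card_top] at hN
      have hC' := h.hC
      rw [hcard] at hC'
      have : centralizer (P : Set G) = ⊤ := eq_top_iff.2 fun g _ => mem_centralizer_iff.2 fun y hy => by
        have hy1 : y = 1 := by
          have : y ∈ (P : Subgroup G) := hy
          rwa [hPbot, mem_bot] at this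
        simp [hy1]
      rw [this, card_top, hN] at hC'
      norm_num at hC'
    rw [T.card_eq_multiplicity] at h3
    exact absurd (Nat.prime_three.dvd_of_dvd_pow h3) (by norm_num)
  · rw [ht, isComplement'_top_left] at hc
    have h4 : 2 ∣ Nat.card T := T.dvd_card_of_dvd_card h2
    rw [hc, card_bot] at h4
    norm_num at h4

/-- The involution of `C`. -/
theorem Ctx.exists_t (h : Ctx P) : ∃ t ∈ centralizer (P : Set G), orderOf t = 2 ∧
    ∀ s ∈ centralizer (P : Set G), s * s = 1 → s = 1 ∨ s = t := by
  set C := centralizer (P : Set G) with hCdef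
  obtain ⟨t, ht⟩ := exists_prime_orderOf_dvd_card' (G := C) 2 (h.hC ▸ dvd_mul_right 2 _)
  refine ⟨t, t.2, by rw [orderOf_coe, ht], fun s hs hs2 => ?_⟩
  have hind : ((P : Subgroup G).subgroupOf C).index = 2 := by
    have h1 := relIndex_mul_relIndex ⊥ (P : Subgroup G) C bot_le h.le_centralizer
    rw [relIndex_bot_left, relIndex_bot_left, h.hC, mul_comm 2] at h1
    exact Nat.eq_of_mul_eq_mul_left Nat.card_pos h1
  have key : ∀ y ∈ (P : Subgroup G), y * y = 1 → y = 1 := fun y hy hy2 => by
    by_contra hne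
    exact odd_card P ((orderOf_eq_prime (by rw [sq]; exact hy2) hne : orderOf y = 2) ▸
      ((P : Subgroup G).orderOf_dvd_natCard hy))
  have ht2 : (t : G) * t = 1 := by
    rw [← Subgroup.coe_mul, ← sq, ← ht, pow_orderOf_eq_one, Subgroup.coe_one]
  have htP : (t : G) ∉ (P : Subgroup G) := fun e => by
    have := key _ e ht2
    rw [← orderOf_coe, this, orderOf_one] at ht
    norm_num at ht
  by_cases hsP : s ∈ (P : Subgroup G)
  · exact Or.inl (key s hsP hs2)
  right
  have hst : s * (t : G) ∈ (P : Subgroup G) :=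
    (mul_mem_iff_of_index_two hind (a := (⟨s, hs⟩ : C)) (b := t)).2 (iff_of_false hsP htP)
  have h1 := key _ hst (by
    rw [show s * (t : G) * (s * t) = s * ((t : G) * s) * t by group, h.comm_C _ t.2 _ hs]
    rw [show s * (s * (t : G)) * t = s * s * ((t : G) * t) by group, hs2, ht2, one_mul])
  calc s = s * ((t : G) * t) := by rw [ht2, mul_one]
    _ = t := by rw [← mul_assoc, h1, one_mul]

/-- The centralizer of an involution of `C` is the normalizer. -/
theorem Ctx.centralizer_t (h : Ctx P) {t : G} (htC : t ∈ centralizer (P : Set G)) (ht : orderOf t = 2)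
    (huniq : ∀ s ∈ centralizer (P : Set G), s * s = 1 → s = 1 ∨ s = t) :
    centralizer ({t} : Set G) = normalizer ((P : Subgroup G) : Set G) := by
  set C := centralizer (P : Set G)
  set Z := centralizer ({t} : Set G)
  have ht1 : t ≠ 1 := fun e => by rw [e, orderOf_one] at ht; norm_num at ht
  have hCZ : C ≤ Z := fun a ha => mem_centralizer_singleton_iff.2 (h.comm_C a ha t htC)
  have hdvd := h.heven Z (h.ne_top ht1) (dvd_trans (h.hC ▸ dvd_mul_right 2 _) (card_dvd_of_le hCZ))
  have hmul := relIndex_mul_relIndex ⊥ C Z bot_le hCZ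
  rw [relIndex_bot_left, relIndex_bot_left, h.hC] at hmul
  rw [← hmul, show 4 * Nat.card P = 2 * Nat.card P * 2 by ring] at hdvd
  have hr : C.relIndex Z ∣ 2 := Nat.dvd_of_mul_dvd_mul_left (Nat.mul_pos two_pos Nat.card_pos) hdvd
  rcases (Nat.dvd_prime Nat.prime_two).1 hr with h1 | h2
  · -- then a Sylow `2`-subgroup has order two
    exfalso
    have hZC : Z = C := le_antisymm (relIndex_eq_one.1 h1) hCZ
    obtain ⟨T, hT⟩ := (IsPGroup.of_card (p := 2) (G := zpowers t) (n := 1) (by rw [Nat.card_zpowers, ht, pow_one])).exists_le_sylow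
    have htT : t ∈ (T : Subgroup G) := hT (mem_zpowers t)
    refine h.not_isCyclic T ?_
    haveI : Nontrivial T := ⟨⟨t, htT⟩, 1, fun e => ht1 (congrArg Subtype.val e)⟩
    haveI := T.2.center_nontrivial
    obtain ⟨z, hz⟩ := exists_ne (1 : center T)
    obtain ⟨k, hk⟩ := T.2 (z : T)
    -- every element of `C ∩ T` is a power of `t`
    have key : ∀ w : G, w ∈ C → ∀ k : ℕ, w ^ 2 ^ k = 1 → w = 1 ∨ w = t := by
      intro w hw k
      induction k generalizing w with
      | zero => intro e; exact Or.inl (by simpa using e)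
      | succ k ih =>
        intro e
        rcases ih (w * w) (mul_mem hw hw) (by rw [← sq, ← pow_mul, ← pow_succ']; exact e) with e1 | e2
        · exact huniq w hw e1
        · exfalso
          have hp := h.sq_mem hw
          rw [e2] at hp
          exact odd_card P (ht ▸ ((P : Subgroup G).orderOf_dvd_natCard hp))
    have hzC : ((z : T) : G) ∈ C := by
      rw [← hZC]
      exact mem_centralizer_singleton_iff.2 (congrArg Subtype.val (mem_center_iff.1 z.2 ⟨t, htT⟩)).symm
    have hzt : ((z : T) : G) = t := (key _ hzC k (congrArg Subtype.val hk)).resolve_left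
      fun e => hz (Subtype.ext (Subtype.ext e))
    have hall : ∀ a : T, (a : G) ∈ zpowers t := fun a => by
      have ha : (a : G) ∈ C := by
        rw [← hZC, mem_centralizer_singleton_iff, ← hzt]
        exact congrArg Subtype.val (mem_center_iff.1 z.2 a)
      obtain ⟨j, hj⟩ := T.2 a
      rcases key _ ha j (congrArg Subtype.val hj) with e | e <;> rw [e]
      · exact one_mem _
      · exact mem_zpowers t
    exact isCyclic_of_injective (Subgroup.inclusion (fun a ha => hall ⟨a, ha⟩ : (T : Subgroup G) ≤ zpowers t))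
      (Subgroup.inclusion_injective _)
  · -- index two, hence normal
    have hnorm : (C.subgroupOf Z).Normal := normal_of_index_eq_two h2
    have hle : Z ≤ normalizer ((P : Subgroup G) : Set G) := fun g hg => by
      refine h.mem_N htC ht1 ?_
      rw [mem_centralizer_singleton_iff.1 hg, mul_inv_cancel_right]
      exact htC
    refine eq_of_le_of_card_ge hle ?_
    rw [h.hN, ← hmul, h2]
    omega

/-- A Klein four Sylow `2`-subgroup and fusion. -/
theorem Ctx.local_structure (h : Ctx P) {t : G} (htC : t ∈ centralizer (P : Set G)) (ht : orderOf t = 2)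
    (huniq : ∀ s ∈ centralizer (P : Set G), s * s = 1 → s = 1 ∨ s = t) :
    (∀ x ∈ (P : Subgroup G), x ≠ 1 → centralizer ({x} : Set G) = centralizer (P : Set G)) ∧
    (∀ n ∈ normalizer ((P : Subgroup G) : Set G), n ∉ centralizer (P : Set G) → n * n = 1 ∧ IsConj t n) ∧
    (∀ i : G, orderOf i = 2 → IsConj t i) := by
  classical
  set C := centralizer (P : Set G)
  set N := normalizer ((P : Subgroup G) : Set G)
  have hCN : C ≤ N := h.centralizer_le
  have hZt := h.centralizer_t htC ht huniq
  have ht1 : t ≠ 1 := fun e => by rw [e, orderOf_one] at ht; norm_num at ht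
  have ht2 : t * t = 1 := by rw [← sq, ← ht, pow_orderOf_eq_one]
  -- a Sylow `2`-subgroup containing `t`
  obtain ⟨T, hT⟩ := (IsPGroup.of_card (p := 2) (G := zpowers t) (n := 1) (by rw [Nat.card_zpowers, ht, pow_one])).exists_le_sylow
  have htT : t ∈ (T : Subgroup G) := hT (mem_zpowers t)
  have h4G : 4 ∣ Nat.card G := dvd_trans ⟨_, h.hN⟩ (card_subgroup_dvd_card N)
  obtain ⟨e, he⟩ := (IsPGroup.iff_card).1 T.2
  have he2 : 2 ≤ e := by
    by_contra hlt
    have h4 : 2 ^ 2 ∣ Nat.card T := T.pow_dvd_card_of_pow_dvd_card (by simpa using h4G)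
    rw [he] at h4
    exact hlt ((Nat.pow_dvd_pow_iff_le_right (by norm_num)).1 h4)
  have hTtop : (T : Subgroup G) ≠ ⊤ := by
    intro etop
    have h3 : 3 ∣ Nat.card G := by
      have hne : Nat.card P ≠ 1 := by
        intro hcard
        have hle := h.ne_top ht1
        apply hle
        rw [eq_top_iff]
        intro g _
        rw [hZt]
        have hPbot : (P : Subgroup G) = ⊥ := eq_bot_of_card_eq _ hcard
        show g ∈ normalizer ((P : Subgroup G) : Set G)
        rw [hPbot, normalizer_eq_top_iff.2 inferInstance]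
        exact mem_top g
      refine dvd_trans ?_ (card_subgroup_dvd_card (P : Subgroup G))
      obtain ⟨k, hk⟩ := (IsPGroup.iff_card).1 P.2
      rw [hk] at hne ⊢
      exact dvd_pow_self 3 fun e => hne (by rw [e, pow_zero])
    rw [← card_top (G := G), ← etop, he] at h3
    exact absurd (Nat.prime_three.dvd_of_dvd_pow h3) (by norm_num)
  have he4 : Nat.card T = 4 := by
    have h1 := h.heven T hTtop (by rw [he]; exact dvd_pow_self 2 (by omega))
    rw [he] at h1
    have h2 : 2 ^ e ∣ 4 := (Nat.Coprime.pow_left e ((Nat.Prime.coprime_iff_not_dvd Nat.prime_two).2 (odd_card P))).dvd_of_dvd_mul_right h1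
    have : e ≤ 2 := (Nat.pow_dvd_pow_iff_le_right (x := 2) (by norm_num)).1 (by simpa using h2)
    rw [he, show e = 2 by omega]; norm_num
  have hTc : IsMulCommutative T := IsPGroup.isMulCommutative_of_card_eq_prime_sq (p := 2) (by simpa using he4)
  have hcT : ∀ a ∈ (T : Subgroup G), ∀ b ∈ (T : Subgroup G), a * b = b * a := fun a ha b hb =>
    congrArg Subtype.val (hTc.is_comm.comm ⟨a, ha⟩ ⟨b, hb⟩)
  have hinv : ∀ a ∈ (T : Subgroup G), a * a = 1 := by
    intro a ha
    by_contra hne
    refine h.not_isCyclic T (isCyclic_of_orderOf_eq_card (⟨a, ha⟩ : T) ?_)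
    have hd : orderOf a ∣ 4 := (Subgroup.orderOf_dvd_natCard (s := (T : Subgroup G)) ha).trans (dvd_of_eq he4)
    rw [he4, Subgroup.orderOf_mk]
    have h2 : ¬ orderOf a ∣ 2 := fun hh => hne (by rw [← sq]; exact orderOf_dvd_iff_pow_eq_one.1 hh)
    have hle := Nat.le_of_dvd (by norm_num) hd
    interval_cases (orderOf a) <;> first | omega | rfl | norm_num at hd h2
  -- some element of the normalizer of `T` moves `t`
  obtain ⟨g, hgT, hgt⟩ : ∃ g ∈ normalizer ((T : Subgroup G) : Set G), g * t * g⁻¹ ≠ t := by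
    by_contra hall
    push Not at hall
    have hfix : normalizer ((T : Subgroup G) : Set G) ≤ centralizer (T : Set G) := by
      intro n hn
      rw [mem_centralizer_iff]
      intro y hy
      -- the 2-part acts trivially, the odd part has odd order on three points
      obtain ⟨k, b, hb, hnk⟩ := Nat.exists_eq_two_pow_mul_odd (orderOf_pos n).ne'
      have hb2 : n ^ b ∈ (T : Subgroup G) := by
        have hp : IsPGroup 2 (zpowers (n ^ b)) := IsPGroup.of_card (n := (orderOf (n ^ b)).factorization 2) (by
          rw [Nat.card_zpowers]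
          have hd : orderOf (n ^ b) ∣ 2 ^ k := orderOf_dvd_of_pow_eq_one (by
            rw [← pow_mul, mul_comm, ← hnk, pow_orderOf_eq_one])
          obtain ⟨j, -, hj⟩ := (Nat.dvd_prime_pow Nat.prime_two).1 hd
          rw [hj, Nat.Prime.factorization_pow Nat.prime_two, Finsupp.single_eq_same])
        have hsup : IsPGroup 2 ((T : Subgroup G) ⊔ zpowers (n ^ b) : Subgroup G) :=
          T.2.to_sup_of_normal_left' hp (zpowers_le.2 (pow_mem hn b))
        exact (T.3 hsup le_sup_left).le (mem_sup_right (mem_zpowers _))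
      have hbfix : n ^ b * y = y * n ^ b := hcT _ hb2 y hy
      have hcN : ∀ m ∈ normalizer ((T : Subgroup G) : Set G), ∀ a ∈ (T : Subgroup G), m * a * m⁻¹ ∈ (T : Subgroup G) :=
        fun m hm a ha => (mem_normalizer_iff.1 hm a).1 ha
      have hnt : n * t = t * n := by
        have := hall n hn
        calc n * t = n * t * n⁻¹ * n := by group
          _ = t * n := by rw [this]
      have hsq : n * n * y = y * (n * n) := by
        -- the conjugation by `n` fixes `1` and `t` and permutes the other two
        set y1 := n * y * n⁻¹ with hy1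
        have hy1T : y1 ∈ (T : Subgroup G) := hcN n hn y hy
        set y2 := n * y1 * n⁻¹ with hy2'
        have hy2T : y2 ∈ (T : Subgroup G) := hcN n hn y1 hy1T
        have hinj : ∀ a b : G, n * a * n⁻¹ = n * b * n⁻¹ → a = b := fun a b e => mul_left_cancel (mul_right_cancel e)
        have hgoal : y2 = y := by
          have hfix1 : n * (1 : G) * n⁻¹ = 1 := by group
          have hfixt : n * t * n⁻¹ = t := by rw [hnt, mul_inv_cancel_right]
          by_cases hy0 : y = 1
          · rw [hy2', hy1, hy0, hfix1, hfix1]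
          by_cases hyt : y = t
          · rw [hy2', hy1, hyt, hfixt, hfixt]
          by_contra hne
          have hA : y1 ≠ 1 := fun e => hy0 (hinj _ _ (e.trans hfix1.symm))
          have hB : y1 ≠ t := fun e => hyt (hinj _ _ (e.trans hfixt.symm))
          have hC1 : y2 ≠ 1 := fun e => hA (hinj _ _ (e.trans hfix1.symm))
          have hD : y2 ≠ t := fun e => hB (hinj _ _ (e.trans hfixt.symm))
          have hE : y1 ≠ y := fun e => hne (by rw [hy2', e, ← hy1, e])
          have hF : y2 ≠ y1 := fun e => hE (hinj _ _ e)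
          have hsub : ({1, t, y, y1, y2} : Finset G) ⊆ ((T : Subgroup G) : Set G).toFinite.toFinset := by
            intro a ha
            simp only [Finset.mem_insert, Finset.mem_singleton] at ha
            rw [Set.Finite.mem_toFinset]
            rcases ha with rfl | rfl | rfl | rfl | rfl
            exacts [one_mem _, htT, hy, hy1T, hy2T]
          have hc := Finset.card_le_card hsub
          rw [show ((T : Subgroup G) : Set G).toFinite.toFinset.card = 4 by
            rw [← Nat.card_eq_card_finite_toFinset]; exact he4] at hc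
          simp [Ne.symm ht1, Ne.symm hy0, Ne.symm hyt, Ne.symm hA, Ne.symm hB, Ne.symm hC1, Ne.symm hD, Ne.symm hE, Ne.symm hF, Ne.symm hne] at hc
        calc n * n * y = y2 * (n * n) := by rw [hy2', hy1]; group
          _ = y * (n * n) := by rw [hgoal]
      obtain ⟨m, rfl⟩ := hb
      have hc1 : Commute (n * n) y := hsq
      have hc2 : Commute (n ^ (2 * m + 1)) y := hbfix
      have e : n = ((n * n) ^ m)⁻¹ * n ^ (2 * m + 1) := by
        rw [← sq, ← pow_mul, pow_succ, inv_mul_cancel_left]
      rw [e]
      exact ((hc1.pow_left m).inv_left.mul_left hc2).eq.symm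
    have hs := h.simple
    have hc := MonoidHom.ker_transferSylow_isComplement' T hfix
    rcases IsSimpleGroup.eq_bot_or_eq_top_of_normal _ (MonoidHom.normal_ker (MonoidHom.transferSylow T hfix)) with hb | htp
    · rw [hb, isComplement'_bot_left] at hc
      exact hTtop hc
    · rw [htp, isComplement'_top_left] at hc
      exact ht1 (mem_bot.1 (hc ▸ htT))
  -- centralizers of elements of `P`
  have hcent : ∀ x ∈ (P : Subgroup G), x ≠ 1 → centralizer ({x} : Set G) = C := by
    intro x hx hx1
    set Z := centralizer ({x} : Set G)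
    have hCZ : C ≤ Z := fun a ha => mem_centralizer_singleton_iff.2 (mem_centralizer_iff.1 ha x hx).symm
    have hdvd := h.heven Z (h.ne_top hx1) (dvd_trans (h.hC ▸ dvd_mul_right 2 _) (card_dvd_of_le hCZ))
    have hmul := relIndex_mul_relIndex ⊥ C Z bot_le hCZ
    rw [relIndex_bot_left, relIndex_bot_left, h.hC] at hmul
    rw [← hmul, show 4 * Nat.card P = 2 * Nat.card P * 2 by ring] at hdvd
    rcases (Nat.dvd_prime Nat.prime_two).1 (Nat.dvd_of_mul_dvd_mul_left (Nat.mul_pos two_pos Nat.card_pos) hdvd) with h1 | h2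
    · exact le_antisymm (relIndex_eq_one.1 h1) hCZ
    exfalso
    have hleN : Z ≤ N := fun a ha => h.mem_N (h.le_centralizer hx) hx1 (by
      rw [mem_centralizer_singleton_iff.1 ha, mul_inv_cancel_right]; exact h.le_centralizer hx)
    have hZN : Z = N := eq_of_le_of_card_ge hleN (by rw [h.hN, ← hmul, h2]; omega)
    have ht' : g * t * g⁻¹ ∈ (T : Subgroup G) := (mem_normalizer_iff.1 hgT t).1 htT
    have hN' : g * t * g⁻¹ ∈ N := by
      rw [show N = centralizer ({t} : Set G) from hZt.symm, mem_centralizer_singleton_iff]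
      exact hcT _ ht' _ htT
    rw [← hZN, mem_centralizer_singleton_iff] at hN'
    have hx' : g⁻¹ * x * g ∈ centralizer ({t} : Set G) := by
      rw [mem_centralizer_singleton_iff]
      calc g⁻¹ * x * g * t = g⁻¹ * (x * (g * t * g⁻¹)) * g := by group
        _ = g⁻¹ * (g * t * g⁻¹ * x) * g := by rw [hN']
        _ = t * (g⁻¹ * x * g) := by group
    rw [hZt] at hx'
    obtain ⟨k, hk⟩ := P.2 ⟨x, hx⟩
    have hxk : x ^ 3 ^ k = 1 := congrArg Subtype.val hk
    have hx'' : g⁻¹ * x * g⁻¹⁻¹ ∈ C := by
      rw [inv_inv]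
      refine h.le_centralizer (h.mem_P_of_pow (k := k) hx' ?_)
      rw [show g⁻¹ * x * g = g⁻¹ * x * g⁻¹⁻¹ by rw [inv_inv], conj_pow, hxk]; group
    have hgN : g ∈ N := inv_mem_iff.1 (h.mem_N (h.le_centralizer hx) hx1 hx'')
    refine hgt ?_
    rw [show N = centralizer ({t} : Set G) from hZt.symm, mem_centralizer_singleton_iff] at hgN
    rw [hgN, mul_inv_cancel_right]
  have hgN : g ∉ centralizer ({t} : Set G) := fun e => hgt (by
    rw [mem_centralizer_singleton_iff.1 e, mul_inv_cancel_right])
  -- the three involutions of `T`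
  have hTconj : ∀ a ∈ (T : Subgroup G), a ≠ 1 → IsConj t a := by
    intro a ha ha1
    by_cases hat : a = t
    · rw [hat]
    set t1 := g * t * g⁻¹
    have ht1T : t1 ∈ (T : Subgroup G) := (mem_normalizer_iff.1 hgT t).1 htT
    by_cases hat1 : a = t1
    · exact isConj_iff.2 ⟨g, hat1.symm⟩
    -- the third one
    set t2 := g * t1 * g⁻¹ with ht2'
    have ht2T : t2 ∈ (T : Subgroup G) := (mem_normalizer_iff.1 hgT t1).1 ht1T
    have hA : t1 ≠ 1 := fun e => ht1 (conj_eq_one_iff.1 e)
    have hB : t2 ≠ 1 := fun e => hA (conj_eq_one_iff.1 e)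
    have hD : t2 ≠ t1 := fun e => hgt (mul_left_cancel (mul_right_cancel e))
    by_cases hat2 : a = t2
    · exact isConj_iff.2 ⟨g * g, by rw [hat2, ht2']; show g * g * t * (g * g)⁻¹ = g * (g * t * g⁻¹) * g⁻¹; group⟩
    exfalso
    by_cases ht2t : t2 = t
    · -- `g` would swap `t` and `t1`
      obtain ⟨k, b, hb, hgk⟩ := Nat.exists_eq_two_pow_mul_odd (orderOf_pos g).ne'
      have hb2 : g ^ b ∈ (T : Subgroup G) := by
        have hp : IsPGroup 2 (zpowers (g ^ b)) := IsPGroup.of_card (n := (orderOf (g ^ b)).factorization 2) (by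
          rw [Nat.card_zpowers]
          have hd : orderOf (g ^ b) ∣ 2 ^ k := orderOf_dvd_of_pow_eq_one (by
            rw [← pow_mul, mul_comm, ← hgk, pow_orderOf_eq_one])
          obtain ⟨j, -, hj⟩ := (Nat.dvd_prime_pow Nat.prime_two).1 hd
          rw [hj, Nat.Prime.factorization_pow Nat.prime_two, Finsupp.single_eq_same])
        have hsup : IsPGroup 2 ((T : Subgroup G) ⊔ zpowers (g ^ b) : Subgroup G) :=
          T.2.to_sup_of_normal_left' hp (zpowers_le.2 (pow_mem hgT b))
        exact (T.3 hsup le_sup_left).le (mem_sup_right (mem_zpowers _))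
      obtain ⟨m, rfl⟩ := hb
      have hc1 : Commute (g * g) t := by
        show g * g * t = t * (g * g)
        calc g * g * t = t2 * (g * g) := by rw [ht2']; show _ = g * (g * t * g⁻¹) * g⁻¹ * (g * g); group
          _ = t * (g * g) := by rw [ht2t]
      have hc2 : Commute (g ^ (2 * m + 1)) t := hcT _ hb2 t htT
      refine hgN (mem_centralizer_singleton_iff.2 ?_)
      have e : g = ((g * g) ^ m)⁻¹ * g ^ (2 * m + 1) := by
        rw [← sq, ← pow_mul, pow_succ, inv_mul_cancel_left]
      rw [e]
      exact ((hc1.pow_left m).inv_left.mul_left hc2).eq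
    have hsub : ({1, t, t1, t2, a} : Finset G) ⊆ ((T : Subgroup G) : Set G).toFinite.toFinset := by
      intro b hb
      simp only [Finset.mem_insert, Finset.mem_singleton] at hb
      rw [Set.Finite.mem_toFinset]
      rcases hb with rfl | rfl | rfl | rfl | rfl
      exacts [one_mem _, htT, ht1T, ht2T, ha]
    have hc := Finset.card_le_card hsub
    rw [show ((T : Subgroup G) : Set G).toFinite.toFinset.card = 4 by
      rw [← Nat.card_eq_card_finite_toFinset]; exact he4] at hc
    simp [Ne.symm ht1, Ne.symm hA, Ne.symm hB, Ne.symm ha1, Ne.symm hat, Ne.symm hat1, Ne.symm hat2,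
      Ne.symm ht2t, Ne.symm hD, Ne.symm hgt] at hc
  have hall : ∀ i : G, orderOf i = 2 → IsConj t i := by
    intro i hi
    obtain ⟨T', hT'⟩ := (IsPGroup.of_card (p := 2) (G := zpowers i) (n := 1) (by rw [Nat.card_zpowers, hi, pow_one])).exists_le_sylow
    obtain ⟨c, hc⟩ := MulAction.exists_smul_eq G T' T
    have hmem : c * i * c⁻¹ ∈ (T : Subgroup G) := by
      rw [← hc]
      exact Subgroup.smul_mem_pointwise_smul i (MulAut.conj c) _ (hT' (mem_zpowers i))
    have hne : c * i * c⁻¹ ≠ 1 := fun e => by
      rw [conj_eq_one_iff.1 e, orderOf_one] at hi; norm_num at hi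
    exact (hTconj _ hmem hne).trans (isConj_iff.2 ⟨c⁻¹, by group⟩)
  refine ⟨hcent, fun n hn hnC => ?_, hall⟩
  have hsqC : n * n ∈ C := by
    have hind : (C.subgroupOf N).index = 2 := by
      have h1 := relIndex_mul_relIndex ⊥ C N bot_le hCN
      rw [relIndex_bot_left, relIndex_bot_left, h.hC, h.hN, show 4 * Nat.card P = 2 * Nat.card P * 2 by ring] at h1
      exact Nat.eq_of_mul_eq_mul_left (Nat.mul_pos two_pos Nat.card_pos) h1
    exact (mul_mem_iff_of_index_two hind (a := (⟨n, hn⟩ : N)) (b := ⟨n, hn⟩)).2 Iff.rfl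
  -- its image in `P` is trivial
  have hkey : n * n * (n * n) = 1 := by
    by_contra hne
    have hP' := h.sq_mem hsqC
    refine hnC ((hcent _ hP' hne).le (mem_centralizer_singleton_iff.2 ?_))
    group
  have hn2 : n * n = 1 := by
    rcases huniq _ hsqC hkey with h1 | h1
    · exact h1
    exfalso
    have ho : orderOf n = 2 ^ 2 := by
      refine orderOf_eq_prime_pow (n := 1) ?_ (by rw [show (2:ℕ) ^ (1 + 1) = 4 by norm_num, show n ^ 4 = n * n * (n * n) by rw [← sq, ← sq, ← pow_mul], hkey])
      rw [pow_one, sq, h1]; exact ht1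
    obtain ⟨T', hT'⟩ := (IsPGroup.of_card (p := 2) (G := zpowers n) (n := 2) (by rw [Nat.card_zpowers, ho])).exists_le_sylow
    have hc4 : Nat.card T' = 4 := by rw [T'.card_eq_multiplicity, ← T.card_eq_multiplicity, he4]
    refine h.not_isCyclic T' (isCyclic_of_orderOf_eq_card (⟨n, hT' (mem_zpowers n)⟩ : T') ?_)
    rw [Subgroup.orderOf_mk, ho, hc4]; norm_num
  refine ⟨hn2, hall n (orderOf_eq_prime (by rw [sq]; exact hn2) fun e => hnC (e ▸ C.one_mem))⟩

end Cfsg.Agent.TIHall
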